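import Cfsg.Agent.H626.PermB.Nu

/-!
# `nu` and class numbers (helper626, task T7 of project KGL)

* `nu_top` : `nu ⊤ 1 f` is the class sum of `f`;
* `nu_one_le` : `nu K y 1 ≤ k(K)`.
-/

set_option autoImplicit false

namespace Cfsg.Agent.H626.PermB

open Subgroup

theorem card_isConj' {G : Type*} [Group G] (z : G) :
    Nat.card {y : G // IsConj z y} = (Subgroup.centralizer ({z} : Set G)).index := by
  have e : {y : G // IsConj z y} ≃ MulAction.orbit (ConjAct G) z :=
    Equiv.subtypeEquivRight fun y => by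
      rw [ConjAct.mem_orbit_conjAct, isConj_comm]
  rw [Nat.card_congr e, Nat.card_congr (MulAction.orbitEquivQuotientStabilizer (ConjAct G) z)]
  rw [ConjAct.stabilizer_eq_centralizer]
  rfl

theorem index_conj {G : Type*} [Group G] {x z : G} (h : IsConj x z) :
    (Subgroup.centralizer ({x} : Set G)).index = (Subgroup.centralizer ({z} : Set G)).index := by
  rw [← card_isConj', ← card_isConj']
  refine Nat.card_congr (Equiv.subtypeEquivRight fun y => ?_)
  exact ⟨fun h1 => h.symm.trans h1, fun h1 => h.trans h1⟩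

variable {G : Type*} [Group G] [Finite G]

open scoped Classical in
/-- the class sum -/
theorem nu_top (f : G → ℝ) (hf : ∀ x z, IsConj x z → f x = f z) (r : ConjClasses G → G)
    (hr : ∀ c, ConjClasses.mk (r c) = c) [Fintype (ConjClasses G)] :
    nu (⊤ : Subgroup G) 1 f = ∑ c : ConjClasses G, f (r c) := by
  have : Fintype G := Fintype.ofFinite G
  have hG : (0 : ℝ) < Nat.card G := by exact_mod_cast Nat.card_pos
  unfold nu
  rw [Nat.card_congr (Subgroup.topEquiv (G := G)).toEquiv, div_eq_iff hG.ne']
  have h1 : cos (⊤ : Subgroup G) 1 = Finset.univ := by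
    ext z
    simp [mem_cos]
  rw [h1, ← Finset.sum_fiberwise (s := Finset.univ) (g := fun z : G => ConjClasses.mk z), Finset.sum_mul]
  refine Finset.sum_congr rfl fun c _ => ?_
  have h2 : ∀ z ∈ Finset.univ.filter (fun z : G => ConjClasses.mk z = c), (cen ⊤ z : ℝ) * f z =
      (Nat.card (Subgroup.centralizer ({r c} : Set G)) : ℝ) * f (r c) := by
    intro z hz
    rw [Finset.mem_filter] at hz
    have h3 : IsConj z (r c) := by
      rw [← ConjClasses.mk_eq_mk_iff_isConj, hr, hz.2]
    rw [hf _ _ h3]
    congr 2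
    have h4 := index_conj h3
    have h5 := Subgroup.card_mul_index (Subgroup.centralizer ({z} : Set G))
    have h6 := Subgroup.card_mul_index (Subgroup.centralizer ({r c} : Set G))
    rw [h4, ← h6] at h5
    unfold cen
    rw [top_inf_eq]
    refine Nat.eq_of_mul_eq_mul_right ?_ h5
    exact Nat.pos_of_ne_zero Subgroup.index_ne_zero_of_finite
  rw [Finset.sum_congr rfl h2, Finset.sum_const, nsmul_eq_mul, ← mul_assoc, mul_comm (f (r c))]
  congr 1
  have h7 : (Finset.univ.filter (fun z : G => ConjClasses.mk z = c)).card =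
      (Subgroup.centralizer ({r c} : Set G)).index := by
    rw [← card_isConj', Nat.card_eq_fintype_card, Fintype.card_subtype]
    congr 1
    ext z
    rw [Finset.mem_filter, Finset.mem_filter, ← ConjClasses.mk_eq_mk_iff_isConj, hr, eq_comm]
  rw [h7]
  have h6 := Subgroup.card_mul_index (Subgroup.centralizer ({r c} : Set G))
  rw [← h6]
  push_cast
  ring

theorem nu_top_one : nu (⊤ : Subgroup G) 1 (fun _ => 1) = Nat.card (ConjClasses G) := by
  classical
  have : Fintype (ConjClasses G) := Fintype.ofFinite _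
  rw [nu_top (fun _ => 1) (fun _ _ _ => rfl) (fun c => (ConjClasses.mk_surjective c).choose)
    (fun c => (ConjClasses.mk_surjective c).choose_spec)]
  rw [Finset.sum_const, Finset.card_univ, nsmul_eq_mul, mul_one, Nat.card_eq_fintype_card]

/-- the number of `K`-orbits on `yK` is at most the class number of `K` -/
theorem nu_one_le (K : Subgroup G) (y : G) : nu K y (fun _ => 1) ≤ Nat.card (ConjClasses K) := by
  classical
  have : Fintype G := Fintype.ofFinite G
  rw [← nu_top_one]
  have h0 : nu (⊤ : Subgroup K) 1 (fun _ => 1) = nu K 1 (fun _ => 1) := (nu_subtype K (fun _ => 1)).symm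
  rw [h0]
  unfold nu
  apply div_le_div_of_nonneg_right _ (card_pos K).le
  simp only [mul_one]
  -- double counting
  have key : ∀ y : G, ∑ z ∈ cos K y, (cen K z : ℝ) =
      ((∑ n : K, Nat.card {z : G // y⁻¹ * z ∈ K ∧ n * z = z * n} : ℕ) : ℝ) := by
    intro y
    rw [← Nat.cast_sum]
    congr 1
    have h1 : ∀ z, cen K z = ∑ n : K, if (n : G) * z = z * n then 1 else 0 := by
      intro z
      unfold cen
      rw [← Finset.card_filter, ← Fintype.card_subtype, ← Nat.card_eq_fintype_card]
      exact Nat.card_congr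
        { toFun := fun k => ⟨⟨k, (mem_infc.1 k.2).1⟩, (mem_infc.1 k.2).2⟩
          invFun := fun k => ⟨k.1, mem_infc.2 ⟨k.1.2, k.2⟩⟩
          left_inv := fun k => rfl
          right_inv := fun k => rfl }
    simp only [h1]
    rw [Finset.sum_comm]
    refine Finset.sum_congr rfl fun n _ => ?_
    rw [← Finset.card_filter, Nat.card_eq_fintype_card, Fintype.card_subtype]
    congr 1
    ext z
    simp [mem_cos]
  rw [key, key]
  norm_cast
  refine Finset.sum_le_sum fun n _ => ?_
  rcases isEmpty_or_nonempty {z : G // y⁻¹ * z ∈ K ∧ n * z = z * n} with h | ⟨⟨z0, h0, h1⟩⟩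
  · rw [Nat.card_of_isEmpty]
    exact Nat.zero_le _
  · refine Nat.card_le_card_of_injective (fun z => ⟨z0⁻¹ * z.1, ?_, ?_⟩) ?_
    · have : 1⁻¹ * (z0⁻¹ * z.1) = (y⁻¹ * z0)⁻¹ * (y⁻¹ * z.1) := by group
      rw [this]
      exact K.mul_mem (K.inv_mem h0) z.2.1
    · have h2 := z.2.2
      have h3 : z0⁻¹ * (n : G) = n * z0⁻¹ := by
        rw [inv_mul_eq_iff_eq_mul, ← mul_assoc, ← h1, mul_inv_cancel_right]
      rw [← mul_assoc, ← h3, mul_assoc, h2, mul_assoc]
    · intro z w h
      exact Subtype.ext (mul_left_cancel (congrArg Subtype.val h))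

end Cfsg.Agent.H626.PermB
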