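import Cfsg.Agent.H626.PermB.Prod

/-!
# The imprimitive and the intransitive case (helper626, task T7 of project KGL)
-/

set_option autoImplicit false

namespace Cfsg.Agent.H626.PermB

open Subgroup

theorem kc_le {G : Type} [Group G] [Finite G] (h5 : ¬ 5 ∣ Nat.card G) {ι : Type} [Fintype ι] (X : ι → Type)
    [∀ i, Finite (X i)] (φ : ∀ i, G →* Equiv.Perm (X i)) (hB : ∀ i, Bd 1 2 (Nat.card (X i)))
    (hker : ∀ g, (∀ i, φ i g = 1) → g = 1) :
    (Nat.card (ConjClasses G) : ℝ) ≤ ∏ i, 2 ^ (Nat.card (X i) - 1) := by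
  classical
  rw [← nu_top_one]
  have h1 := prod_le (t := 1) (r := 2) zero_le_one one_le_two h5 X φ Finset.univ (fun _ => 1) (fun _ => zero_le_one) 1
    zero_le_one (fun i _ => hB i) ⊤ 1 (fun z _ => by
      have h2 : (⊤ : Subgroup G) ⊓ ⨅ i ∈ Finset.univ, (φ i).ker = ⊥ := by
        rw [top_inf_eq, eq_bot_iff]
        intro g hg
        simp only [Subgroup.mem_iInf, Finset.mem_univ, forall_true_left, MonoidHom.mem_ker] at hg
        exact hker g hg
      rw [h2, nu_bot])
  rw [mul_one] at h1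
  refine le_trans (le_of_eq ?_) h1
  refine nu_congr fun z _ => ?_
  simp [Fx]

theorem fib_bound {ω c : ℝ} (hω : 0 ≤ ω) (hc : 1 ≤ c) (hωc : 2 * ω ≤ c) {G : Type} [Group G] [Finite G]
    (h5 : ¬ 5 ∣ Nat.card G) {X : Type} [Finite X] (φ : G →* Equiv.Perm X) (hφ : Function.Injective φ) {Y : Type}
    [Finite Y] (ψ : G →* Equiv.Perm Y) (π : X → Y) (hπ : Function.Surjective π)
    (heq : ∀ g x, π (φ g x) = ψ g (π x)) (hB : ∀ y, Bd ω c (Nat.card {x // π x = y}))
    (hB2 : ∀ y, Bd 1 2 (Nat.card {x // π x = y})) (z : G) :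
    nu ψ.ker z (fun g => Fx ω (φ g)) ≤ c ^ (Nat.card X - Nat.card Y) * Fx ω (ψ z) := by
  classical
  have : Fintype Y := Fintype.ofFinite Y
  set P := ψ.ker ⊔ zpowers z with hP
  have hzP : z ∈ P := le_sup_right (a := ψ.ker) (mem_zpowers z)
  have hD : ψ.ker ≤ P := le_sup_left
  rw [nu_subgroupOf P ψ.ker hD ⟨z, hzP⟩]
  set D := ψ.ker.subgroupOf P with hDdef
  have hpow : ∀ g : P, ψ g ∈ zpowers (ψ z) := by
    intro g
    have h1 : P ≤ (zpowers (ψ z)).comap ψ := by
      refine sup_le (fun x hx => ?_) ?_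
      · change ψ x ∈ zpowers (ψ z)
        rw [MonoidHom.mem_ker.1 hx]
        exact one_mem _
      · rw [zpowers_le]
        exact mem_zpowers _
    exact h1 g.2
  have hcomm : ∀ g : P, ∀ y, ψ g (ψ z y) = ψ z (ψ g y) := by
    intro g y
    obtain ⟨k, hk⟩ := hpow g
    have h1 : Commute (ψ g) (ψ z) := by
      rw [← hk]
      exact (Commute.refl (ψ z)).zpow_left k
    have h2 := congrArg (fun σ : Equiv.Perm Y => σ y) h1.eq
    exact h2
  have hfix : ∀ g : P, ∀ y, ψ z y = y → ψ g y = y := by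
    intro g y hy
    obtain ⟨k, hk⟩ := hpow g
    have h1 : zpowers (ψ z) ≤ MulAction.stabilizer (Equiv.Perm Y) y := by
      rw [zpowers_le]
      exact hy
    exact h1 (hk ▸ zpow_mem (mem_zpowers (ψ z)) k : ψ g ∈ zpowers (ψ z))
  let φf : ∀ i : {y // ψ z y = y}, P →* Equiv.Perm {x // π x = i} := fun i =>
    rest (φ.comp P.subtype) (fun x => π x = i) (fun g x => by
      change π (φ g x) = i ↔ π x = i
      rw [heq]
      constructor
      · intro h
        exact (ψ (g : G)).injective (h.trans (hfix g i i.2).symm)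
      · intro h
        rw [h]
        exact hfix g i i.2)
  let φB : P →* Equiv.Perm {x // ¬ ψ z (π x) = π x} :=
    rest (φ.comp P.subtype) (fun x => ¬ ψ z (π x) = π x) (fun g x => by
      change ¬ ψ z (π (φ g x)) = π (φ g x) ↔ ¬ ψ z (π x) = π x
      rw [heq, ← hcomm, (ψ (g : G)).injective.eq_iff])
  have hweight : ∀ g : P, Fx ω (φ g) = (∏ i ∈ Finset.univ, Fx ω (φf i g)) * Fx ω (φB g) := by
    intro g
    unfold Fx
    rw [Finset.prod_pow_eq_pow_sum, ← pow_add]
    congr 1
    have h1 : mv (φ g) = Nat.card {x // φ g x ≠ x ∧ ψ z (π x) = π x} + Nat.card {x // φ g x ≠ x ∧ ¬ ψ z (π x) = π x} :=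
      card_split _ _
    rw [h1, card_fiber (fun x => φ g x ≠ x) (fun y => ψ z y = y) π]
    congr 1
    · refine Finset.sum_congr rfl fun i _ => ?_
      exact (mv_rest (φ.comp P.subtype) _ _ g).symm
    · exact (mv_rest (φ.comp P.subtype) _ _ g).symm
  simp only [hweight]
  -- the count for the moved part
  set em := ∑ i : {y // ¬ ψ z y = y}, (Nat.card {x // π x = i} - 1) with hem
  set NB := Nat.card {x // ¬ ψ z (π x) = π x} with hNB
  have hcardP : ¬ 5 ∣ Nat.card P := fun hd => h5 (hd.trans (Subgroup.card_subgroup_dvd_card P))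
  have key := prod_le hω hc hcardP (fun i : {y // ψ z y = y} => {x // π x = i}) φf Finset.univ
    (fun g => Fx ω (φB g)) (fun g => Fx_nonneg hω _) (ω ^ NB * 2 ^ em) (by positivity) (fun i _ => hB i) D ⟨z, hzP⟩
    (fun w hw => by
      set E := D ⊓ ⨅ i ∈ Finset.univ, (φf i).ker with hE
      have hw1 : ψ w = ψ z := by
        have h1 : ((⟨z, hzP⟩ : P)⁻¹ * w : P) ∈ D := hw
        rw [hDdef, Subgroup.mem_subgroupOf, MonoidHom.mem_ker] at h1
        rw [Subgroup.coe_mul, Subgroup.coe_inv, map_mul, map_inv, inv_mul_eq_one] at h1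
        exact h1.symm
      have h1 : nu E w (fun g => Fx ω (φB g)) = nu E w (fun _ => ω ^ NB * 1) := by
        refine nu_congr fun v hv => ?_
        have hv1 : ψ v = ψ z := by
          have h2 := (Subgroup.mem_inf.1 hv).1
          rw [hDdef, Subgroup.mem_subgroupOf, MonoidHom.mem_ker] at h2
          rw [Subgroup.coe_mul, Subgroup.coe_inv, map_mul, map_inv, inv_mul_eq_one] at h2
          rw [← h2, hw1]
        rw [mul_one]
        unfold Fx
        congr 1
        rw [mv_rest (φ.comp P.subtype) _ _ v, hNB]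
        refine Nat.card_congr (Equiv.subtypeEquivRight fun x => ?_)
        refine ⟨fun h => h.2, fun h => ⟨fun h3 => h ?_, h⟩⟩
        have h4 := congrArg π h3
        change π (φ v x) = π x at h4
        rw [heq, hv1] at h4
        exact h4
      rw [h1, nu_const_mul]
      refine mul_le_mul_of_nonneg_left ((nu_one_le E w).trans ?_) (pow_nonneg hω _)
      have htriv : ∀ g : E, ∀ y, ψ ((g : P) : G) y = y := by
        intro g y
        have h2 := (Subgroup.mem_inf.1 g.2).1
        rw [hDdef, Subgroup.mem_subgroupOf, MonoidHom.mem_ker] at h2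
        rw [h2]
        rfl
      have h2 := kc_le (G := E) (fun hd => hcardP (hd.trans (Subgroup.card_subgroup_dvd_card E)))
        (fun i : {y // ¬ ψ z y = y} => {x // π x = i})
        (fun i => rest ((φ.comp P.subtype).comp E.subtype) (fun x => π x = i) (fun g x => by
          change π (φ (g : P) x) = i ↔ π x = i
          rw [heq, htriv]))
        (fun i => hB2 i) (fun g hg => by
          apply Subtype.ext
          apply Subtype.ext
          apply hφ
          refine Equiv.ext fun x => ?_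
          change φ ((g : P) : G) x = φ 1 x
          rw [map_one]
          change φ ((g : P) : G) x = x
          by_cases hx : ψ z (π x) = π x
          · have h3 := (Subgroup.mem_inf.1 g.2).2
            simp only [Subgroup.mem_iInf, Finset.mem_univ, forall_true_left] at h3
            exact mem_ker_rest.1 (h3 ⟨π x, hx⟩) x rfl
          · exact mem_ker_rest.1 (MonoidHom.mem_ker.2 (hg ⟨π x, hx⟩)) x rfl)
      rw [Finset.prod_pow_eq_pow_sum] at h2
      exact h2)
  refine key.trans ?_
  rw [Finset.prod_pow_eq_pow_sum]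
  -- numbers
  have hne : ∀ y, 1 ≤ Nat.card {x // π x = y} := by
    intro y
    obtain ⟨x, hx⟩ := hπ y
    have : Nonempty {x // π x = y} := ⟨⟨x, hx⟩⟩
    exact Nat.card_pos
  have hNB' : NB = mv (ψ z) + em := by
    have h1 : NB = Nat.card {x : X // True ∧ ¬ ψ z (π x) = π x} :=
      Nat.card_congr (Equiv.subtypeEquivRight fun x => by simp)
    rw [h1, card_fiber (fun _ => True) (fun y => ¬ ψ z y = y) π, hem]
    have h2 : mv (ψ z) = ∑ i : {y // ¬ ψ z y = y}, 1 := by
      rw [Finset.sum_const, smul_eq_mul, mul_one, Finset.card_univ, ← Nat.card_eq_fintype_card]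
      rfl
    rw [h2, ← Finset.sum_add_distrib]
    refine Finset.sum_congr rfl fun i _ => ?_
    have h3 := hne i
    have h4 : Nat.card {x : X // True ∧ π x = i} = Nat.card {x : X // π x = i} :=
      Nat.card_congr (Equiv.subtypeEquivRight fun x => by simp)
    rw [h4]
    omega
  have hX : Nat.card X - Nat.card Y = (∑ i : {y // ψ z y = y}, (Nat.card {x // π x = i} - 1)) + em := by
    have h1 : Nat.card X = Nat.card {x : X // True ∧ ψ z (π x) = π x} + Nat.card {x : X // True ∧ ¬ ψ z (π x) = π x} := by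
      rw [← card_split (fun _ : X => True) (fun x => ψ z (π x) = π x)]
      exact (Nat.card_congr (Equiv.subtypeUnivEquiv fun _ => trivial)).symm
    have h2 : Nat.card Y = Nat.card {y : Y // ψ z y = y} + Nat.card {y : Y // ¬ ψ z y = y} := by
      rw [Nat.card_eq_fintype_card, Nat.card_eq_fintype_card, Nat.card_eq_fintype_card,
        Fintype.card_subtype_compl]
      have := Fintype.card_subtype_le (fun y => ψ z y = y)
      omega
    rw [card_fiber (fun _ => True) (fun y => ψ z y = y) π, card_fiber (fun _ => True) (fun y => ¬ ψ z y = y) π] at h1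
    have h3 : ∀ (Q : Y → Prop) [Fintype {y // Q y}], ∑ y : {y // Q y}, Nat.card {x : X // True ∧ π x = y} =
        Nat.card {y // Q y} + ∑ y : {y // Q y}, (Nat.card {x // π x = y} - 1) := by
      intro Q _
      have h2 : Nat.card {y // Q y} = ∑ i : {y // Q y}, 1 := by
        rw [Finset.sum_const, smul_eq_mul, mul_one, Finset.card_univ, ← Nat.card_eq_fintype_card]
      rw [h2, ← Finset.sum_add_distrib]
      refine Finset.sum_congr rfl fun i _ => ?_
      have h3 := hne i
      have h4 : Nat.card {x : X // True ∧ π x = i} = Nat.card {x : X // π x = i} :=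
        Nat.card_congr (Equiv.subtypeEquivRight fun x => by simp)
      rw [h4]
      omega
    rw [h3, h3] at h1
    omega
  rw [hX, hNB', pow_add c, mul_assoc]
  refine mul_le_mul_of_nonneg_left ?_ (by positivity)
  unfold Fx
  calc ω ^ (mv (ψ z) + em) * 2 ^ em = (2 * ω) ^ em * ω ^ mv (ψ z) := by rw [pow_add, mul_pow]; ring
    _ ≤ c ^ em * ω ^ mv (ψ z) := mul_le_mul_of_nonneg_right (pow_le_pow_left₀ (by linarith) hωc _) (pow_nonneg hω _)

theorem imp {ω c : ℝ} (hω : 0 ≤ ω) (hc : 1 ≤ c) (hωc : 2 * ω ≤ c) {G : Type} [Group G] [Finite G]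
    (h5 : ¬ 5 ∣ Nat.card G) {X : Type} [Finite X] [Nonempty X] (φ : G →* Equiv.Perm X) (hφ : Function.Injective φ)
    {Y : Type} [Finite Y] (ψ : G →* Equiv.Perm Y) (π : X → Y) (hπ : Function.Surjective π)
    (heq : ∀ g x, π (φ g x) = ψ g (π x)) (hB : ∀ y, Bd ω c (Nat.card {x // π x = y}))
    (hB2 : ∀ y, Bd 1 2 (Nat.card {x // π x = y}))
    (hY : nu (⊤ : Subgroup ψ.range) 1 (fun σ => Fx ω (σ : Equiv.Perm Y)) ≤ c ^ (Nat.card Y - 1)) :
    nu (⊤ : Subgroup G) 1 (fun g => Fx ω (φ g)) ≤ c ^ (Nat.card X - 1) := by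
  have h1 := nu_le_of_hom ψ.rangeRestrict ⊤ 1 (fun g => Fx ω (φ g)) (fun z => Fx_nonneg hω _)
    (fun σ => c ^ (Nat.card X - Nat.card Y) * Fx ω (σ : Equiv.Perm Y)) (fun z _ => by
      rw [MonoidHom.ker_rangeRestrict, top_inf_eq]
      exact fib_bound hω hc hωc h5 φ hφ ψ π hπ heq hB hB2 z)
  refine h1.trans ?_
  rw [nu_const_mul, map_one, Subgroup.map_top_of_surjective _ ψ.rangeRestrict_surjective]
  refine (mul_le_mul_of_nonneg_left hY (by positivity)).trans (le_of_eq ?_)
  rw [← pow_add]
  congr 1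
  have h2 : Nat.card Y ≤ Nat.card X := Nat.card_le_card_of_surjective π hπ
  have h3 : Nonempty Y := ⟨π (Classical.arbitrary X)⟩
  have h4 : 0 < Nat.card Y := Nat.card_pos
  omega

end Cfsg.Agent.H626.PermB
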