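import Mathlib

/-!
# Weighted numbers of orbits on cosets (helper626, task T7 of project KGL)

`nu K y f = (1/|K|) ∑_{z ∈ yK} |C_K(z)| f(z)`: if `y` normalises `K` this is the sum of `f` over the `K`-orbits on `yK`.

* `nu_le_of_hom` : fibration over a homomorphism;
* `nu_le_sup` : `nu K y f ≤ nu (K ⊔ ⟨y⟩) 1 f`;
* `nu_one_le` : `nu K y 1 ≤ k(K)`.
-/

set_option autoImplicit false

namespace Cfsg.Agent.H626.PermB

open Subgroup

variable {G : Type*} [Group G] [Finite G]

/-- the coset `yK` as a finset -/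
noncomputable def cos (K : Subgroup G) (y : G) : Finset G := (Set.toFinite {z : G | y⁻¹ * z ∈ K}).toFinset

theorem mem_cos {K : Subgroup G} {y z : G} : z ∈ cos K y ↔ y⁻¹ * z ∈ K := by simp [cos]

/-- `|C_K(z)|` -/
noncomputable def cen (K : Subgroup G) (z : G) : ℕ := Nat.card ↥(K ⊓ Subgroup.centralizer {z})

omit [Finite G] in
theorem mem_infc {K : Subgroup G} {z k : G} : k ∈ K ⊓ Subgroup.centralizer {z} ↔ k ∈ K ∧ k * z = z * k := by
  rw [Subgroup.mem_inf, Subgroup.mem_centralizer_singleton_iff]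

/-- the weighted number of `K`-orbits on `yK` -/
noncomputable def nu (K : Subgroup G) (y : G) (f : G → ℝ) : ℝ :=
  (∑ z ∈ cos K y, (cen K z : ℝ) * f z) / Nat.card K

theorem card_pos (K : Subgroup G) : (0 : ℝ) < Nat.card K := by exact_mod_cast Nat.card_pos

theorem card_cos (K : Subgroup G) (y : G) : (cos K y).card = Nat.card K := by
  rw [Nat.card_congr (show K ≃ {z // z ∈ cos K y} from
    { toFun := fun k => ⟨y * k, by rw [mem_cos, inv_mul_cancel_left]; exact k.2⟩
      invFun := fun z => ⟨y⁻¹ * z, mem_cos.1 z.2⟩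
      left_inv := fun k => Subtype.ext (inv_mul_cancel_left _ _)
      right_inv := fun z => Subtype.ext (mul_inv_cancel_left _ _) }), Nat.card_eq_fintype_card, Fintype.card_coe]

theorem nu_mono {K : Subgroup G} {y : G} {f f' : G → ℝ} (h : ∀ z, y⁻¹ * z ∈ K → f z ≤ f' z) :
    nu K y f ≤ nu K y f' := by
  unfold nu
  apply div_le_div_of_nonneg_right _ (card_pos K).le
  refine Finset.sum_le_sum fun z hz => ?_
  exact mul_le_mul_of_nonneg_left (h z (mem_cos.1 hz)) (Nat.cast_nonneg _)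

theorem nu_congr {K : Subgroup G} {y : G} {f f' : G → ℝ} (h : ∀ z, y⁻¹ * z ∈ K → f z = f' z) :
    nu K y f = nu K y f' :=
  le_antisymm (nu_mono fun z hz => (h z hz).le) (nu_mono fun z hz => (h z hz).ge)

theorem nu_const_mul (K : Subgroup G) (y : G) (f : G → ℝ) (c : ℝ) : nu K y (fun z => c * f z) = c * nu K y f := by
  unfold nu
  rw [← mul_div_assoc, Finset.mul_sum]
  congr 1
  exact Finset.sum_congr rfl fun z _ => by ring

theorem nu_bot (y : G) (f : G → ℝ) : nu (⊥ : Subgroup G) y f = f y := by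
  have h1 : cos (⊥ : Subgroup G) y = {y} := by
    ext z
    rw [mem_cos, Subgroup.mem_bot, Finset.mem_singleton, inv_mul_eq_one, eq_comm]
  unfold nu
  rw [h1, Finset.sum_singleton]
  simp [cen]

/-- for injective homomorphisms -/
theorem nu_map {H : Type*} [Group H] [Finite H] (φ : G →* H) (hφ : Function.Injective φ) (K : Subgroup G) (y : G)
    (f : H → ℝ) : nu (K.map φ) (φ y) f = nu K y (fun z => f (φ z)) := by
  unfold nu
  have h1 : cos (K.map φ) (φ y) = (cos K y).map ⟨φ, hφ⟩ := by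
    ext z
    rw [mem_cos, Finset.mem_map]
    constructor
    · rintro ⟨k, hk, hkz⟩
      refine ⟨y * k, ?_, ?_⟩
      · rw [mem_cos, inv_mul_cancel_left]; exact hk
      · change φ (y * k) = z
        rw [map_mul, hkz, mul_inv_cancel_left]
    · rintro ⟨w, hw, rfl⟩
      exact ⟨_, mem_cos.1 hw, by simp⟩
  have h2 : ∀ z, cen (K.map φ) (φ z) = cen K z := by
    intro z
    unfold cen
    have h3 : K.map φ ⊓ Subgroup.centralizer {φ z} = (K ⊓ Subgroup.centralizer {z}).map φ := by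
      ext x
      rw [mem_infc]
      constructor
      · rintro ⟨⟨k, hk, rfl⟩, hx⟩
        refine ⟨k, mem_infc.2 ⟨hk, ?_⟩, rfl⟩
        rw [← map_mul, ← map_mul] at hx
        exact hφ hx
      · rintro ⟨k, hk, rfl⟩
        obtain ⟨hk, hkz⟩ := mem_infc.1 hk
        refine ⟨⟨k, hk, rfl⟩, ?_⟩
        rw [← map_mul, ← map_mul, hkz]
    rw [h3]
    exact (Nat.card_congr ((K ⊓ Subgroup.centralizer {z}).equivMapOfInjective φ hφ).toEquiv).symm
  rw [h1, Finset.sum_map, ← Nat.card_congr (K.equivMapOfInjective φ hφ).toEquiv]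
  congr 1
  exact Finset.sum_congr rfl fun z _ => by rw [Function.Embedding.coeFn_mk, h2]

theorem nu_subtype (P : Subgroup G) (f : G → ℝ) : nu P 1 f = nu (⊤ : Subgroup P) 1 (fun z => f z) := by
  have h := nu_map P.subtype P.subtype_injective ⊤ 1 f
  rw [← MonoidHom.range_eq_map, P.range_subtype, map_one] at h
  exact h

theorem nu_subgroupOf (P K : Subgroup G) (hK : K ≤ P) (y : P) (f : G → ℝ) :
    nu K y f = nu (K.subgroupOf P) y (fun z => f z) := by
  have h := nu_map P.subtype P.subtype_injective (K.subgroupOf P) y f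
  rw [Subgroup.map_subgroupOf_eq_of_le hK] at h
  exact h

omit [Finite G] in
/-- order of an image and a kernel -/
theorem card_map_mul_card {H : Type*} [Group H] (φ : G →* H) (K : Subgroup G) :
    Nat.card K = Nat.card (K.map φ) * Nat.card ↥(K ⊓ φ.ker) := by
  have h1 := Subgroup.card_mul_index ((φ.comp K.subtype).ker)
  rw [Subgroup.index_ker] at h1
  have h2 : (φ.comp K.subtype).range = K.map φ := by
    rw [MonoidHom.range_comp, K.range_subtype]
  have h3 : Nat.card (φ.comp K.subtype).ker = Nat.card ↥(K ⊓ φ.ker) := by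
    refine Nat.card_congr
      { toFun := fun k => ⟨(k : K), ⟨(k : K).2, k.2⟩⟩
        invFun := fun k => ⟨⟨k, k.2.1⟩, k.2.2⟩
        left_inv := fun k => rfl
        right_inv := fun k => rfl }
  rw [← h1, h2, h3, mul_comm]

/-- `|C_K(z)| ≤ |C_{φ(K)}(φ(z))| |C_{K ∩ ker φ}(z)|` -/
theorem cen_le {H : Type*} [Group H] [Finite H] (φ : G →* H) (K : Subgroup G) (z : G) :
    cen K z ≤ cen (K.map φ) (φ z) * cen (K ⊓ φ.ker) z := by
  unfold cen
  rw [card_map_mul_card φ (K ⊓ Subgroup.centralizer {z})]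
  apply Nat.mul_le_mul
  · apply Subgroup.card_le_of_le
    rintro _ ⟨k, hk, rfl⟩
    obtain ⟨hk, hkz⟩ := mem_infc.1 hk
    refine mem_infc.2 ⟨⟨k, hk, rfl⟩, ?_⟩
    rw [← map_mul, ← map_mul, hkz]
  · apply le_of_eq
    congr 1
    rw [inf_right_comm]

/-- **Fibration**. -/
theorem nu_le_of_hom {H : Type*} [Group H] [Finite H] (φ : G →* H) (K : Subgroup G) (y : G) (f : G → ℝ)
    (hf : ∀ z, 0 ≤ f z) (g : H → ℝ) (h : ∀ z, y⁻¹ * z ∈ K → nu (K ⊓ φ.ker) z f ≤ g (φ z)) :
    nu K y f ≤ nu (K.map φ) (φ y) g := by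
  classical
  have hc : (Nat.card K : ℝ) = Nat.card (K.map φ) * Nat.card ↥(K ⊓ φ.ker) := by
    exact_mod_cast card_map_mul_card φ K
  have h1 : ∑ z ∈ cos K y, (cen K z : ℝ) * f z ≤
      Nat.card ↥(K ⊓ φ.ker) * ∑ x ∈ cos (K.map φ) (φ y), (cen (K.map φ) x : ℝ) * g x := by
    have hmaps : ∀ z ∈ cos K y, φ z ∈ cos (K.map φ) (φ y) := by
      intro z hz
      rw [mem_cos] at hz ⊢
      exact ⟨_, hz, by simp⟩
    rw [← Finset.sum_fiberwise_of_maps_to hmaps, Finset.mul_sum]
    refine Finset.sum_le_sum fun x hx => ?_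
    rw [mem_cos] at hx
    obtain ⟨k, hk, hkx⟩ := hx
    have hx0 : φ (y * k) = x := by rw [map_mul, hkx, mul_inv_cancel_left]
    have hz0 : y⁻¹ * (y * k) ∈ K := by rw [inv_mul_cancel_left]; exact hk
    set z0 := y * k with hz0def
    have hfib : (cos K y).filter (fun z => φ z = x) = cos (K ⊓ φ.ker) z0 := by
      ext z
      rw [Finset.mem_filter, mem_cos, mem_cos, Subgroup.mem_inf, MonoidHom.mem_ker]
      constructor
      · rintro ⟨h2, h3⟩
        refine ⟨?_, by rw [map_mul, map_inv, hx0, h3, inv_mul_cancel]⟩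
        have : z0⁻¹ * z = (y⁻¹ * z0)⁻¹ * (y⁻¹ * z) := by group
        rw [this]
        exact K.mul_mem (K.inv_mem hz0) h2
      · rintro ⟨h2, h3⟩
        constructor
        · have : y⁻¹ * z = (y⁻¹ * z0) * (z0⁻¹ * z) := by group
          rw [this]
          exact K.mul_mem hz0 h2
        · rw [map_mul, map_inv, inv_mul_eq_one] at h3
          rw [← h3, hx0]
    rw [hfib]
    have h4 := h z0 hz0
    rw [hx0] at h4
    unfold nu at h4
    rw [div_le_iff₀ (card_pos _)] at h4
    calc ∑ z ∈ cos (K ⊓ φ.ker) z0, (cen K z : ℝ) * f z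
        ≤ ∑ z ∈ cos (K ⊓ φ.ker) z0, (cen (K.map φ) x : ℝ) * ((cen (K ⊓ φ.ker) z : ℝ) * f z) := by
          refine Finset.sum_le_sum fun z hz => ?_
          rw [← hfib, Finset.mem_filter] at hz
          rw [← mul_assoc]
          refine mul_le_mul_of_nonneg_right ?_ (hf z)
          rw [← hz.2]
          exact_mod_cast cen_le φ K z
      _ = (cen (K.map φ) x : ℝ) * ∑ z ∈ cos (K ⊓ φ.ker) z0, (cen (K ⊓ φ.ker) z : ℝ) * f z := by
          rw [Finset.mul_sum]
      _ ≤ (cen (K.map φ) x : ℝ) * (g x * Nat.card ↥(K ⊓ φ.ker)) :=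
          mul_le_mul_of_nonneg_left h4 (Nat.cast_nonneg _)
      _ = _ := by ring
  unfold nu
  rw [hc, div_le_div_iff₀ (by have := card_pos (K.map φ); have := card_pos (K ⊓ φ.ker); positivity) (card_pos _)]
  calc (∑ z ∈ cos K y, (cen K z : ℝ) * f z) * Nat.card (K.map φ)
      ≤ (Nat.card ↥(K ⊓ φ.ker) * ∑ x ∈ cos (K.map φ) (φ y), (cen (K.map φ) x : ℝ) * g x) * Nat.card (K.map φ) :=
        mul_le_mul_of_nonneg_right h1 (card_pos _).le
    _ = _ := by ring

/-- `|C_K(z)| |P| ≤ |C_P(z)| |K|` for `P = K ⊔ ⟨z⟩` -/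
theorem cen_mul_card_le (K : Subgroup G) [K.Normal] (y z : G) (hz : y⁻¹ * z ∈ K) :
    cen K z * Nat.card ↥(K ⊔ zpowers y) ≤ cen (K ⊔ zpowers y) z * Nat.card K := by
  set P := K ⊔ zpowers y with hP
  set C := P ⊓ Subgroup.centralizer {z} with hC
  have hzP : z ∈ P := by
    have : z = y * (y⁻¹ * z) := by group
    rw [this]
    exact P.mul_mem (le_sup_right (a := K) (mem_zpowers y)) (le_sup_left (b := zpowers y) hz)
  have h1 : K ⊔ C = P := by
    apply le_antisymm (sup_le le_sup_left inf_le_left)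
    have hzC : z ∈ K ⊔ C := le_sup_right (a := K) (mem_infc.2 ⟨hzP, rfl⟩)
    refine sup_le le_sup_left ?_
    rw [zpowers_le]
    have : y = z * (y⁻¹ * z)⁻¹ := by group
    rw [this]
    exact (K ⊔ C).mul_mem hzC ((K ⊔ C).inv_mem (le_sup_left (b := C) hz))
  have h2 : K.relIndex C = K.relIndex P := by
    rw [← h1, sup_comm, Subgroup.relIndex_sup_right]
  have h3 : Nat.card ↥(K ⊓ C) * K.relIndex C = Nat.card C := by
    rw [← Subgroup.inf_relIndex_right, ← Subgroup.relIndex_bot_left, ← Subgroup.relIndex_bot_left,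
      Subgroup.relIndex_mul_relIndex _ _ _ bot_le inf_le_right]
  have h4 : Nat.card K * K.relIndex P = Nat.card P := by
    rw [← Subgroup.relIndex_bot_left, ← Subgroup.relIndex_bot_left,
      Subgroup.relIndex_mul_relIndex _ _ _ bot_le le_sup_left]
  have h5 : K ⊓ C = K ⊓ Subgroup.centralizer {z} := by
    rw [hC, ← inf_assoc, inf_eq_left.2 (le_sup_left : K ≤ P)]
  apply le_of_eq
  unfold cen
  rw [← h5, ← h4, ← hC, ← h3, h2]
  ring

theorem nu_le_sup (K : Subgroup G) [K.Normal] (y : G) (f : G → ℝ) (hf : ∀ z, 0 ≤ f z) :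
    nu K y f ≤ nu (K ⊔ zpowers y) 1 f := by
  classical
  unfold nu
  rw [div_le_div_iff₀ (card_pos _) (card_pos _), Finset.sum_mul, Finset.sum_mul]
  calc ∑ z ∈ cos K y, (cen K z : ℝ) * f z * Nat.card ↥(K ⊔ zpowers y)
      ≤ ∑ z ∈ cos K y, (cen (K ⊔ zpowers y) z : ℝ) * f z * Nat.card K := by
        refine Finset.sum_le_sum fun z hz => ?_
        have h1 : (cen K z : ℝ) * Nat.card ↥(K ⊔ zpowers y) ≤ cen (K ⊔ zpowers y) z * Nat.card K := by
          exact_mod_cast cen_mul_card_le K y z (mem_cos.1 hz)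
        have h2 := mul_le_mul_of_nonneg_right h1 (hf z)
        linarith
    _ ≤ ∑ z ∈ cos (K ⊔ zpowers y) 1, (cen (K ⊔ zpowers y) z : ℝ) * f z * Nat.card K := by
        apply Finset.sum_le_sum_of_subset_of_nonneg
        · intro z hz
          rw [mem_cos] at hz ⊢
          have : 1⁻¹ * z = y * (y⁻¹ * z) := by group
          rw [this]
          exact (K ⊔ zpowers y).mul_mem (le_sup_right (a := K) (mem_zpowers y)) (le_sup_left (b := zpowers y) hz)
        · intro z _ _
          have := hf z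
          positivity

end Cfsg.Agent.H626.PermB
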