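import Cfsg.Agent.H626.PermB.Cls

/-!
# Products of actions (helper626, task T7 of project KGL)

`Fx t σ = t ^ (number of points moved by σ)`; `Bd t r n`: in all groups of order prime to `5` acting on `n` points
`nu K y Fx ≤ r ^ (n - 1)`; `prod_le`: products of actions.
-/

set_option autoImplicit false

namespace Cfsg.Agent.H626.PermB

open Subgroup

/-- the number of moved points -/
noncomputable def mv {X : Type*} (σ : Equiv.Perm X) : ℕ := Nat.card {x // σ x ≠ x}

/-- the weight -/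
noncomputable def Fx (t : ℝ) {X : Type*} (σ : Equiv.Perm X) : ℝ := t ^ mv σ

theorem Fx_nonneg {t : ℝ} (ht : 0 ≤ t) {X : Type*} (σ : Equiv.Perm X) : 0 ≤ Fx t σ := pow_nonneg ht _

theorem Fx_one (t : ℝ) {X : Type*} : Fx t (1 : Equiv.Perm X) = 1 := by
  unfold Fx mv
  have : IsEmpty {x : X // (1 : Equiv.Perm X) x ≠ x} := ⟨fun x => x.2 rfl⟩
  rw [Nat.card_of_isEmpty, pow_zero]

/-- the bound -/
def Bd (t r : ℝ) (n : ℕ) : Prop := ∀ (G : Type) [Group G] [Finite G] (X : Type) [Finite X] (φ : G →* Equiv.Perm X),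
  Nat.card X = n → ¬ 5 ∣ Nat.card G → ∀ (K : Subgroup G) [K.Normal] (y : G), K ⊓ φ.ker = ⊥ →
    nu K y (fun g => Fx t (φ g)) ≤ r ^ (n - 1)

theorem prod_le {t r : ℝ} (ht : 0 ≤ t) (hr : 1 ≤ r) {G : Type} [Group G] [Finite G] (h5 : ¬ 5 ∣ Nat.card G)
    {ι : Type} (X : ι → Type) [∀ i, Finite (X i)] (φ : ∀ i, G →* Equiv.Perm (X i)) (s : Finset ι)
    (f2 : G → ℝ) (hf2 : ∀ g, 0 ≤ f2 g) (b2 : ℝ) (hb2 : 0 ≤ b2) :
    (∀ i ∈ s, Bd t r (Nat.card (X i))) → ∀ (K : Subgroup G) [K.Normal] (y : G),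
    (∀ z, y⁻¹ * z ∈ K → nu (K ⊓ ⨅ i ∈ s, (φ i).ker) z f2 ≤ b2) →
    nu K y (fun g => (∏ i ∈ s, Fx t (φ i g)) * f2 g) ≤ (∏ i ∈ s, r ^ (Nat.card (X i) - 1)) * b2 := by
  classical
  induction s using Finset.induction_on with
  | empty =>
    intro _ K _ y h
    have h1 := h y (by rw [inv_mul_cancel]; exact K.one_mem)
    simp only [Finset.notMem_empty, iInf_false, iInf_top, inf_top_eq] at h1
    simpa using h1
  | insert i s hi ih =>
    intro hB K _ y h
    have hBi := hB i (Finset.mem_insert_self _ _)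
    have ih' := ih fun j hj => hB j (Finset.mem_insert_of_mem hj)
    rw [Finset.prod_insert hi]
    simp only [Finset.prod_insert hi]
    set C := (∏ j ∈ s, r ^ (Nat.card (X j) - 1)) * b2 with hC
    have hC0 : 0 ≤ C := mul_nonneg (Finset.prod_nonneg fun j _ => pow_nonneg (by linarith) _) hb2
    have hprod : ∀ g, 0 ≤ ∏ j ∈ s, Fx t (φ j g) := fun g => Finset.prod_nonneg fun j _ => Fx_nonneg ht _
    have key := nu_le_of_hom (φ i).rangeRestrict K y (fun g => (Fx t (φ i g) * ∏ j ∈ s, Fx t (φ j g)) * f2 g)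
      (fun z => mul_nonneg (mul_nonneg (Fx_nonneg ht _) (hprod z)) (hf2 z))
      (fun x => C * Fx t (x : Equiv.Perm (X i))) (fun z hz => by
        rw [MonoidHom.ker_rangeRestrict]
        have h1 : nu (K ⊓ (φ i).ker) z (fun g => (Fx t (φ i g) * ∏ j ∈ s, Fx t (φ j g)) * f2 g) =
            nu (K ⊓ (φ i).ker) z (fun g => Fx t (φ i z) * ((∏ j ∈ s, Fx t (φ j g)) * f2 g)) := by
          refine nu_congr fun w hw => ?_
          have h2 : φ i w = φ i z := by
            have h3 := (Subgroup.mem_inf.1 hw).2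
            rw [MonoidHom.mem_ker, map_mul, map_inv, inv_mul_eq_one] at h3
            exact h3.symm
          rw [h2, mul_assoc]
        rw [h1, nu_const_mul, mul_comm C]
        refine mul_le_mul_of_nonneg_left ?_ (Fx_nonneg ht _)
        refine ih' (K ⊓ (φ i).ker) z fun w hw => ?_
        have h4 : y⁻¹ * w ∈ K := by
          have : y⁻¹ * w = (y⁻¹ * z) * (z⁻¹ * w) := by group
          rw [this]
          exact K.mul_mem hz hw.1
        have h5 := h w h4
        have h6 : K ⊓ (φ i).ker ⊓ ⨅ j ∈ s, (φ j).ker = K ⊓ ⨅ j ∈ insert i s, (φ j).ker := by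
          rw [Finset.iInf_insert, inf_assoc]
        rw [h6]
        exact h5)
    refine key.trans ?_
    rw [nu_const_mul]
    have h7 : (K.map (φ i).rangeRestrict).Normal := Subgroup.Normal.map inferInstance _ (φ i).rangeRestrict_surjective
    have h8 : nu (K.map (φ i).rangeRestrict) ((φ i).rangeRestrict y) (fun x => Fx t (x : Equiv.Perm (X i))) ≤
        r ^ (Nat.card (X i) - 1) := by
      refine hBi (φ i).range (X i) (φ i).range.subtype rfl (fun hd => h5 (hd.trans (Subgroup.card_range_dvd _))) _ _ ?_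
      rw [(MonoidHom.ker_eq_bot_iff _).2 (Subgroup.subtype_injective _), inf_bot_eq]
    calc C * nu (K.map (φ i).rangeRestrict) ((φ i).rangeRestrict y) (fun x => Fx t (x : Equiv.Perm (X i)))
        ≤ C * r ^ (Nat.card (X i) - 1) := mul_le_mul_of_nonneg_left h8 hC0
      _ = _ := by rw [hC]; ring

/-- the restriction of an action to an invariant subset -/
def rest {G : Type*} [Group G] {X : Type*} (φ : G →* Equiv.Perm X) (q : X → Prop) (h : ∀ g x, q (φ g x) ↔ q x) :
    G →* Equiv.Perm {x // q x} where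
  toFun g := (φ g).subtypePerm (fun x => h g x)
  map_one' := by
    ext x
    simp
  map_mul' a b := by
    refine Equiv.ext fun x => Subtype.ext ?_
    change φ (a * b) x = φ a (φ b x)
    rw [map_mul]
    rfl

theorem rest_apply {G : Type*} [Group G] {X : Type*} (φ : G →* Equiv.Perm X) (q : X → Prop)
    (h : ∀ g x, q (φ g x) ↔ q x) (g : G) (x : {x // q x}) : (rest φ q h g x : X) = φ g x := rfl

theorem mem_ker_rest {G : Type*} [Group G] {X : Type*} {φ : G →* Equiv.Perm X} {q : X → Prop}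
    {h : ∀ g x, q (φ g x) ↔ q x} {g : G} : g ∈ (rest φ q h).ker ↔ ∀ x, q x → φ g x = x := by
  rw [MonoidHom.mem_ker]
  constructor
  · intro h1 x hx
    have := congrArg (fun σ : Equiv.Perm {x // q x} => (σ ⟨x, hx⟩ : X)) h1
    exact this
  · intro h1
    ext x
    exact h1 x x.2

theorem mv_rest {G : Type*} [Group G] {X : Type*} (φ : G →* Equiv.Perm X) (q : X → Prop)
    (h : ∀ g x, q (φ g x) ↔ q x) (g : G) : mv (rest φ q h g) = Nat.card {x // φ g x ≠ x ∧ q x} := by
  unfold mv
  refine Nat.card_congr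
    { toFun := fun x => ⟨x.1.1, fun h1 => x.2 (Subtype.ext h1), x.1.2⟩
      invFun := fun x => ⟨⟨x.1, x.2.2⟩, fun h1 => x.2.1 (congrArg Subtype.val h1)⟩
      left_inv := fun x => rfl
      right_inv := fun x => rfl }

theorem card_fiber {X Y : Type*} [Finite X] (q : X → Prop) (Q : Y → Prop) [Fintype {y // Q y}] (π : X → Y) :
    Nat.card {x // q x ∧ Q (π x)} = ∑ y : {y // Q y}, Nat.card {x // q x ∧ π x = y} := by
  rw [← Nat.card_sigma]
  refine Nat.card_congr
    { toFun := fun x => ⟨⟨π x.1, x.2.2⟩, x.1, x.2.1, rfl⟩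
      invFun := fun x => ⟨x.2.1, x.2.2.1, by rw [x.2.2.2]; exact x.1.2⟩
      left_inv := fun x => rfl
      right_inv := fun x => by
        obtain ⟨⟨y, hy⟩, x, hx, hxy⟩ := x
        change π x = y at hxy
        subst hxy
        rfl }

theorem card_split {X : Type*} [Finite X] (q Q : X → Prop) :
    Nat.card {x // q x} = Nat.card {x // q x ∧ Q x} + Nat.card {x // q x ∧ ¬ Q x} := by
  classical
  rw [← Nat.card_sum]
  refine Nat.card_congr
    { toFun := fun x => if h : Q x then Sum.inl ⟨x, x.2, h⟩ else Sum.inr ⟨x, x.2, h⟩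
      invFun := Sum.elim (fun x => ⟨x.1, x.2.1⟩) (fun x => ⟨x.1, x.2.1⟩)
      left_inv := fun x => by
        by_cases h : Q x
        · simp [h]
        · simp [h]
      right_inv := fun x => by
        rcases x with x | x
        · simp [x.2.2]
        · simp [x.2.2] }

end Cfsg.Agent.H626.PermB
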